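import Cfsg.Agent.H570.Ore.Ex_mg
import Cfsg.Agent.H410.TwoCo2
import Cfsg.Agent.H715.Mon.RowB
import Cfsg.Agent.H954.DR.CentB
import Cfsg.Agent.KFacts.Baby.RowB_m3
import Cfsg.Agent.Prune
set_option linter.all false
prune_inst 0x7f00000000000000000000000000000000000000000000000000000000000000000000000000000000000000000000000000000000000000000000000000000000000000000000000000000000000000003fffffffffffffffffffffffffffbeffbdffffffff
open scoped Cfsg.Agent.FastGrp

/-!
# ORE (S2443), row B: centralizers of the elements of orders 31, 23, 19, 17 in the Baby Monster (typed by helper570, compiled by helper630)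

`SThree` is the theorem of Feit and Thompson on self-centralizing subgroups of order 3 (S3331).
-/

set_option autoImplicit false
set_option maxRecDepth 100000

open Subgroup

namespace Cfsg.Agent.H630.OreB.Cent

open Cfsg Cfsg.Agent.H715.Mon.Cent Cfsg.Agent.H715.Mon.RowB
open Cfsg.Agent.H954.DR.CentB (NB arith)
open Cfsg.Agent.H979.OddB (nadj3 nadj7)
open Cfsg.Agent.H241.Mon (Gam card_G card_XX)
open Cfsg.Agent.H241.NH (Three)
open Cfsg.Agent.H715.Mon.Grp (SThree)

universe u

theorem three_of (h : SThree.{0}) : Three.{0} := by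
  intro K _ _ T hT hC
  rcases h K T hT hC with ⟨N, hN, h1, -, h3⟩ | ⟨N, hN, -, h2, ⟨e⟩⟩ | ⟨⟨e⟩⟩
  · refine Or.inl ⟨N, hN, h1, ?_⟩
    rcases h3 with h3 | ⟨⟨e⟩⟩
    · exact Or.inl h3
    · right
      rw [Nat.card_congr e.toEquiv, Nat.card_eq_fintype_card, Fintype.card_perm, Fintype.card_fin]
      rfl
  · refine Or.inr (Or.inl ⟨N, hN, h2, ?_⟩)
    rw [Nat.card_congr e.toEquiv]
    have h4 : 2 * Nat.card (alternatingGroup (Fin 5)) = 2 * 60 := by
      rw [Nat.card_eq_fintype_card, two_mul_card_alternatingGroup, Fintype.card_perm, Fintype.card_fin]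
      rfl
    omega
  · right; right
    rw [Nat.card_congr e.toEquiv]
    have : Fact (Nat.Prime 7) := ⟨by norm_num⟩
    exact Cfsg.Agent.SmallSimple.PSLFacts.card_psl_two_seven (ZMod.card 7)

section gen

variable {G : Type*} [Group G] [Finite G]

omit [Finite G] in
theorem cent_equiv {H : Type*} [Group H] (e : G ≃* H) (x : G) :
    Nat.card (centralizer ({e x} : Set H)) = Nat.card (centralizer ({x} : Set G)) := by
  refine (Nat.card_congr (Equiv.subtypeEquiv e.toEquiv fun g => ?_)).symm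
  rw [mem_centralizer_singleton_iff, mem_centralizer_singleton_iff]
  show g * x = x * g ↔ e g * e x = e x * e g
  rw [← map_mul, ← map_mul, EmbeddingLike.apply_eq_iff_eq]

theorem ord_dvd {x : G} {p : ℕ} (hx : orderOf x = p) : p ∣ Nat.card (centralizer ({x} : Set G)) := by
  rw [← hx, ← Subgroup.orderOf_mk x (mem_centralizer_singleton_iff.2 rfl : x ∈ centralizer ({x} : Set G))]
  exact orderOf_dvd_natCard _

theorem not_dvd {x : G} {q : ℕ} (hq : q.Prime) (h : ∀ y : G, orderOf y = q → y * x ≠ x * y) :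
    ¬ q ∣ Nat.card (centralizer ({x} : Set G)) := by
  intro h3
  have : Fact q.Prime := ⟨hq⟩
  obtain ⟨y, hy⟩ := exists_prime_orderOf_dvd_card' q h3
  exact h (y : G) (by rw [Subgroup.orderOf_coe, hy]) (mem_centralizer_singleton_iff.1 y.2)

/-- the centralizers of two elements of order `p`, `p` exact -/
theorem card_eq {p : ℕ} (hp : p.Prime) (h2 : ¬ p ^ 2 ∣ Nat.card G) {x y : G} (hx : orderOf x = p) (hy : orderOf y = p) :
    Nat.card (centralizer ({x} : Set G)) = Nat.card (centralizer ({y} : Set G)) := by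
  obtain ⟨g, hg⟩ := Cfsg.Agent.H149.Sp.Eng.exists_conj hp h2 hx hy
  have h1 : Nat.card (centralizer ({g * y * g⁻¹} : Set G)) = Nat.card (centralizer ({y} : Set G)) :=
    Blocks.SylowIn.card_centralizer_of_isConj (isConj_iff.2 ⟨g, rfl⟩)
  rw [← h1]
  have ho : orderOf (g * y * g⁻¹) = p := by
    rw [← hy]; exact MulEquiv.orderOf_eq (MulAut.conj g) y
  have h3 : zpowers x = zpowers (g * y * g⁻¹) :=
    Subgroup.eq_of_le_of_card_ge (by rw [zpowers_le]; exact hg) (by rw [Nat.card_zpowers, Nat.card_zpowers, hx, ho])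
  have h4 : ∀ x : G, centralizer ({x} : Set G) = centralizer (zpowers x : Set G) := fun x => by
    rw [zpowers_eq_closure, centralizer_closure]
  rw [h4 x, h3, ← h4]

theorem sylow {p : ℕ} (hp : p.Prime) (h2 : ¬ p ^ 2 ∣ Nat.card G) {x : G} (hx : orderOf x = p) :
    ∃ e ∈ (p - 1).divisors, Nat.card G % (Nat.card (centralizer ({x} : Set G)) * e) = 0 ∧
      Nat.card G / (Nat.card (centralizer ({x} : Set G)) * e) % p = 1 := by
  obtain ⟨e, he, h3, h4⟩ := arith hp h2 hx
  have h5 := hp.two_le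
  refine ⟨e, Nat.mem_divisors.2 ⟨he, by omega⟩, ?_, ?_⟩
  · rw [h3]
    exact Nat.mod_eq_zero_of_dvd (card_subgroup_dvd_card _)
  · rw [h4]
    exact Nat.mod_eq_of_lt hp.one_lt

end gen

/-! ### The Monster, 19 -/

theorem m19 (h3 : SThree.{0}) {y : Gam} (hy : orderOf y = 19) : Nat.card (centralizer ({y} : Set Gam)) = 1140 := by
  have h19 : Nat.Prime 19 := by norm_num
  have hz : ¬ 19 ∣ 2 ^ 25 * 4157776806543360000 := by norm_num
  have hsq : ¬ 19 ^ 2 ∣ Nat.card Gam := by rw [card_G]; norm_num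
  have : Finite Spor.Th := Nat.finite_of_card_ne_zero (by rw [S1700.result.2]; norm_num)
  have : Finite Spor.HN := Nat.finite_of_card_ne_zero (by rw [S1701.result.2]; norm_num)
  obtain ⟨v, hv, hvy⟩ := exists_three' h19 (by norm_num) hsq
    (self_of_card h19 (by rw [S1700.result.2]; norm_num) fun y hy => H491.PB.Th.card_nineteen hy) hy
  obtain ⟨w, hw, hwy⟩ := exists_five' h19 (by norm_num) hsq
    (self_of_card h19 (by rw [S1701.result.2]; norm_num) fun y hy => H315.PwHN.card_nineteen hy) hy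
  have hle := card19 h3 hy
  have d3 : 3 ∣ Nat.card (centralizer ({y} : Set Gam)) := by
    rw [← hv, ← Subgroup.orderOf_mk v (mem_centralizer_singleton_iff.2 hvy.1)]
    exact orderOf_dvd_natCard _
  have d5 : 5 ∣ Nat.card (centralizer ({y} : Set Gam)) := by
    rw [← hw, ← Subgroup.orderOf_mk w (mem_centralizer_singleton_iff.2 hwy.1)]
    exact orderOf_dvd_natCard _
  have d19 := ord_dvd hy
  obtain ⟨e, he, h4, h5⟩ := sylow h19 hsq hy
  rw [card_G] at h4 h5
  generalize Nat.card (centralizer ({y} : Set Gam)) = c at *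
  have h6 : 285 ∣ c := by
    have h7 : 15 ∣ c := Nat.Coprime.mul_dvd_of_dvd_of_dvd (by norm_num : Nat.Coprime 3 5) d3 d5
    exact Nat.Coprime.mul_dvd_of_dvd_of_dvd (by norm_num : Nat.Coprime 15 19) h7 d19
  obtain ⟨k, rfl⟩ := h6
  have hk : k ∈ Finset.range 5 := by rw [Finset.mem_range]; omega
  have key : ∀ k ∈ Finset.range 5, ∀ e ∈ (19 - 1).divisors,
      808017424794512875886459904961710757005754368000000000 % (285 * k * e) = 0 →
      808017424794512875886459904961710757005754368000000000 / (285 * k * e) % 19 = 1 → 285 * k = 1140 := by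
    decide +kernel
  exact key k hk e he h4 h5

variable {L : Type u} [Group L] [Finite L]

/-! ### 31 -/

theorem c31 (h3 : SThree.{0}) (h : Spor.IsoB L) {y : L} (hy : orderOf y = 31) :
    Nat.card (centralizer ({y} : Set L)) = 31 := by
  obtain ⟨x, hx, hd⟩ := exists_cent h (by norm_num) (by norm_num) hy
  rw [card31 h3 hx] at hd
  have d31 := ord_dvd hy
  have n3 : ¬ 3 ∣ Nat.card (centralizer ({y} : Set L)) :=
    not_dvd Nat.prime_three fun w hw => nadj3 h (by simp) hw hy
  generalize Nat.card (centralizer ({y} : Set L)) = c at *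
  have h1 : c ∣ 93 := Nat.dvd_of_mul_dvd_mul_right (by norm_num : 0 < 2) (by exact hd)
  obtain ⟨k, rfl⟩ := d31
  have h4 : k ∣ 3 := Nat.dvd_of_mul_dvd_mul_left (by norm_num : 0 < 31) (by exact h1)
  rcases (Nat.dvd_prime Nat.prime_three).1 h4 with rfl | rfl
  · rfl
  · exact absurd (dvd_mul_left 3 31) n3

/-! ### 19 -/

theorem c19 (h3 : SThree.{0}) (h : Spor.IsoB L) {y : L} (hy : orderOf y = 19) :
    Nat.card (centralizer ({y} : Set L)) = 38 := by
  have hN : Nat.card L = NB := NotCT.Orders.b h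
  have hsq : ¬ 19 ^ 2 ∣ Nat.card L := by rw [hN]; norm_num
  obtain ⟨x, hx, hd⟩ := exists_cent h (by norm_num) (by norm_num) hy
  rw [m19 h3 hx] at hd
  have d19 := ord_dvd hy
  have n3 : ¬ 3 ∣ Nat.card (centralizer ({y} : Set L)) :=
    not_dvd Nat.prime_three fun w hw => nadj3 h (by simp) hw hy
  obtain ⟨e, he, h4, h5⟩ := sylow (by norm_num) hsq hy
  rw [hN] at h4 h5
  generalize Nat.card (centralizer ({y} : Set L)) = c at *
  have h1 : c ∣ 570 := Nat.dvd_of_mul_dvd_mul_right (by norm_num : 0 < 2) (by exact hd)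
  obtain ⟨k, rfl⟩ := d19
  have h6 : k ∣ 30 := Nat.dvd_of_mul_dvd_mul_left (by norm_num : 0 < 19) (by exact h1)
  have hk : k ∈ Nat.divisors 30 := Nat.mem_divisors.2 ⟨h6, by norm_num⟩
  have key : ∀ k ∈ Nat.divisors 30, (19 * k) % 3 ≠ 0 → ∀ e ∈ (19 - 1).divisors,
      4154781481226426191177580544000000 % (19 * k * e) = 0 →
      4154781481226426191177580544000000 / (19 * k * e) % 19 = 1 → 19 * k = 38 := by
    decide +kernel
  exact key k hk (fun h => n3 (Nat.dvd_of_mod_eq_zero h)) e he h4 h5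

/-! ### 17 -/

theorem c17 (h3 : SThree.{0}) (h : Spor.IsoB L) {y : L} (hy : orderOf y = 17) :
    Nat.card (centralizer ({y} : Set L)) = 68 := by
  have hN : Nat.card L = NB := NotCT.Orders.b h
  have hsq : ¬ 17 ^ 2 ∣ Nat.card L := by rw [hN]; norm_num
  obtain ⟨x, hx, hd⟩ := exists_cent h (by norm_num) (by norm_num) hy
  have hd' := hd.trans (Cfsg.Agent.H241.Mon.card_seventeen (three_of h3) hx)
  have d17 := ord_dvd hy
  have n3 : ¬ 3 ∣ Nat.card (centralizer ({y} : Set L)) :=
    not_dvd Nat.prime_three fun w hw => nadj3 h (by simp) hw hy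
  obtain ⟨e, he, h4, h5⟩ := sylow (by norm_num) hsq hy
  rw [hN] at h4 h5
  generalize Nat.card (centralizer ({y} : Set L)) = c at *
  have h1 : c ∣ 84 * 17 := Nat.dvd_of_mul_dvd_mul_right (by norm_num : 0 < 2) (by exact hd')
  obtain ⟨k, rfl⟩ := d17
  have h6 : k ∣ 84 := Nat.dvd_of_mul_dvd_mul_left (by norm_num : 0 < 17) (by rw [mul_comm 17 84]; exact h1)
  have hk : k ∈ Nat.divisors 84 := Nat.mem_divisors.2 ⟨h6, by norm_num⟩
  have key : ∀ k ∈ Nat.divisors 84, (17 * k) % 3 ≠ 0 → ∀ e ∈ (17 - 1).divisors,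
      4154781481226426191177580544000000 % (17 * k * e) = 0 →
      4154781481226426191177580544000000 / (17 * k * e) % 17 = 1 → 17 * k = 68 := by
    decide +kernel
  exact key k hk (fun h => n3 (Nat.dvd_of_mod_eq_zero h)) e he h4 h5

/-! ### 23 -/

open Cfsg.Agent.BabyM Cfsg.Agent.BabyM.Model Cfsg.Agent.BabyU.ClosModel Cfsg.Agent.BabyU.ClosLane in
/-- an element of order 23 of the model commuting with `z` -/
theorem model23 : ∃ x : Inst.M.G, orderOf x = 23 ∧ x * H570.Ore.Model.Z = H570.Ore.Model.Z * x ∧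
    ¬ 4 ∣ Nat.card (centralizer ({x} : Set Inst.M.G)) := by
  have hfin := A.finite_G
  have h23 : Fact (Nat.Prime 23) := ⟨by norm_num⟩
  have hcC : Nat.card (centralizer ({zz A} : Set Inst.M.G)) = 2 ^ 23 * 42305421312000 := by
    rw [Nat.card_congr (KFacts.Baby.Inst.eC A).toEquiv, A.grp.card_C]
  obtain ⟨x, hx⟩ := exists_prime_orderOf_dvd_card' (G := centralizer ({zz A} : Set Inst.M.G)) 23 (by rw [hcC]; norm_num)
  obtain ⟨π, -, hπ⟩ := KFacts.Baby.Inst.quot A
  have hx' : orderOf (x : Inst.M.G) = 23 := by rw [Subgroup.orderOf_coe, hx]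
  have hxz := mem_centralizer_singleton_iff.1 x.2
  have hQ : Nat.card (PP Inst.M) = 2 ^ 23 := by
    rw [← A.grp.Q_card]
    exact Nat.card_congr (Subgroup.subgroupOfEquivOfLe (A.grp.Q_le.trans A.C_le_G)).toEquiv
  obtain ⟨e⟩ := Cfsg.Agent.Schreier.CoTwoStab.exists_equiv _ GroupInst.dt_l₀
  refine ⟨x, hx', hxz, H570.Ore.Ex.not_four (KFacts.Baby.Inst.large A) hQ π hπ (fun y hy => ?_) hx' hxz⟩
  have h1 := H410.TwoCo2.card_cent_23 (z := e y) (by rw [MulEquiv.orderOf_eq, hy])
  rw [← h1]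
  exact (cent_equiv e y).symm

/-- **`|C(x)| = 46` for `x` of order 23.** -/
theorem c23 [IsSimpleGroup L] (h3 : SThree.{0}) (h : Spor.IsoB L) {y : L} (hy : orderOf y = 23) :
    Nat.card (centralizer ({y} : Set L)) = 46 := by
  have hN : Nat.card L = NB := NotCT.Orders.b h
  have hsq : ¬ 23 ^ 2 ∣ Nat.card L := by rw [hN]; norm_num
  have hF : Fact (Nat.Prime 23) := ⟨by norm_num⟩
  obtain ⟨x, hx, hxz, h4⟩ := model23
  obtain ⟨f⟩ := KFacts.Baby.RowB.exists_iso h
  have hfx : orderOf (f x) = 23 := by rw [MulEquiv.orderOf_eq, hx]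
  have e0 : Nat.card (centralizer ({y} : Set L)) = Nat.card (centralizer ({x} : Set BabyM.Inst.M.G)) := by
    rw [card_eq (by norm_num) hsq hy hfx, cent_equiv]
  have n4 : ¬ 4 ∣ Nat.card (centralizer ({y} : Set L)) := by rw [e0]; exact h4
  have d2 : 2 ∣ Nat.card (centralizer ({y} : Set L)) := by
    rw [e0]
    have h5 : orderOf H570.Ore.Model.Z = 2 := orderOf_eq_prime (by rw [pow_two]; exact H570.Ore.Model.Z_sq) H570.Ore.Model.Z_ne
    rw [← h5, ← Subgroup.orderOf_mk H570.Ore.Model.Z (mem_centralizer_singleton_iff.2 hxz.symm)]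
    have hfin := BabyM.Instance.all.finite_G
    exact orderOf_dvd_natCard _
  have d23 := ord_dvd hy
  have n3 : ¬ 3 ∣ Nat.card (centralizer ({y} : Set L)) :=
    not_dvd Nat.prime_three fun w hw => nadj3 h (by simp) hw hy
  have n5 : ¬ 5 ∣ Nat.card (centralizer ({y} : Set L)) :=
    not_dvd Nat.prime_five fun w hw => Cfsg.Agent.H630.Baby.strong_five h (by simp) hw hy
  have n7 : ¬ 7 ∣ Nat.card (centralizer ({y} : Set L)) :=
    not_dvd (by norm_num) fun w hw => nadj7 h (by simp) hw hy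
  have key : ∀ {q c : ℕ}, q.Prime → (∀ w : L, orderOf w = q → Nat.card (centralizer ({w} : Set L)) = c) → ¬ 23 ∣ c →
      ¬ q ∣ Nat.card (centralizer ({y} : Set L)) := by
    intro q c hq h1 h2
    refine not_dvd hq fun w hw hc => h2 ?_
    rw [← h1 w hw, ← hy, ← Subgroup.orderOf_mk y (mem_centralizer_singleton_iff.2 hc.symm)]
    exact orderOf_dvd_natCard _
  have n17 := key (by norm_num : Nat.Prime 17) (fun w hw => c17 h3 h hw) (by norm_num)
  have n19 := key (by norm_num : Nat.Prime 19) (fun w hw => c19 h3 h hw) (by norm_num)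
  have n31 := key (by norm_num : Nat.Prime 31) (fun w hw => c31 h3 h hw) (by norm_num)
  have n47 := key (by norm_num : Nat.Prime 47) (fun w hw => Cfsg.Agent.H954.DR.CentB.cent47 h hw) (by norm_num)
  -- the Sylow subgroup
  have hG : ¬ IsMulCommutative L := by
    intro hcomm
    have h5 : (Nat.card L).Prime := by
      let _ : CommGroup L := { (inferInstance : Group L) with mul_comm := fun a b => hcomm.is_comm.comm a b }
      exact IsSimpleGroup.prime_card
    rw [hN] at h5
    norm_num at h5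
  have hpg : IsPGroup 23 (zpowers y) := IsPGroup.of_card (n := 1) (by rw [Nat.card_zpowers, hy, pow_one])
  have hidx : ¬ 23 ∣ (zpowers y).index := by
    intro h
    apply hsq
    rw [← (zpowers y).card_mul_index, Nat.card_zpowers, hy, pow_two]
    exact Nat.mul_dvd_mul_left 23 h
  let P : Sylow 23 L := hpg.toSylow hidx
  obtain ⟨e, K, hL⟩ := SmallSimple.PrimeLocal.exists_local hG (by rw [hN]; norm_num) hsq P
  have hCx : Nat.card (centralizer ({y} : Set L)) = 23 * Nat.card K := by
    rw [← hL.card_centralizer]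
    have : centralizer ({y} : Set L) = centralizer (zpowers y : Set L) := by
      rw [zpowers_eq_closure, centralizer_closure]
    rw [this]; rfl
  have hd : Nat.card (centralizer ({y} : Set L)) ∣ NB := by rw [← hN]; exact card_subgroup_dvd_card _
  have hcard := hL.card_eq
  have hsy := card_sylow_modEq_one 23 L
  rw [hN] at hcard
  rw [hCx] at n4 d2 n3 n5 n7 n17 n19 n31 n47 hd ⊢
  obtain ⟨m, hm⟩ := (Nat.Coprime.dvd_of_dvd_mul_left (by norm_num : Nat.Coprime 2 23) d2)
  rw [hm] at n4 n3 n5 n7 n17 n19 n31 n47 hd hcard ⊢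
  have hm143 : m ∣ 11 * 13 := by
    have e1 : NB = 2 ^ 41 * (3 ^ 13 * (5 ^ 6 * (7 ^ 2 * (17 ^ 1 * (19 ^ 1 * (31 ^ 1 * (47 ^ 1 * (23 * (11 * 13))))))))) := by
      norm_num
    have hco : ∀ {p j : ℕ}, p.Prime → ¬ p ∣ 23 * (2 * m) → Nat.Coprime (23 * m) (p ^ j) := by
      intro p j hp h1
      refine (Nat.Coprime.pow_left j ((Nat.Prime.coprime_iff_not_dvd hp).2 fun h2 => h1 (h2.trans ⟨2, by ring⟩))).symm
    have h2m : Nat.Coprime (23 * m) (2 ^ 41) := by
      refine (Nat.Coprime.pow_left 41 ((Nat.Prime.coprime_iff_not_dvd Nat.prime_two).2 fun h2 => ?_)).symm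
      rcases (Nat.Prime.dvd_mul Nat.prime_two).1 h2 with h2 | ⟨r, hr⟩
      · revert h2; norm_num
      · exact n4 ⟨23 * r, by rw [hr]; ring⟩
    have hd' : 23 * m ∣ NB := (Dvd.intro_left 2 (by ring : 2 * (23 * m) = 23 * (2 * m))).trans hd
    rw [e1] at hd'
    have g1 := h2m.dvd_of_dvd_mul_left hd'
    have g2 := (hco (j := 13) Nat.prime_three n3).dvd_of_dvd_mul_left g1
    have g3 := (hco (j := 6) Nat.prime_five n5).dvd_of_dvd_mul_left g2
    have g4 := (hco (j := 2) (by norm_num) n7).dvd_of_dvd_mul_left g3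
    have g5 := (hco (j := 1) (by norm_num) n17).dvd_of_dvd_mul_left g4
    have g6 := (hco (j := 1) (by norm_num) n19).dvd_of_dvd_mul_left g5
    have g7 := (hco (j := 1) (by norm_num) n31).dvd_of_dvd_mul_left g6
    have g8 := (hco (j := 1) (by norm_num) n47).dvd_of_dvd_mul_left g7
    exact Nat.dvd_of_mul_dvd_mul_left (by norm_num) g8
  have hmm : m ∈ Nat.divisors 143 := Nat.mem_divisors.2 ⟨by simpa using hm143, by norm_num⟩
  have hee : e ∈ Nat.divisors 22 := Nat.mem_divisors.2 ⟨by simpa using hL.dvd_pred, by norm_num⟩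
  have fin : ∀ m ∈ Nat.divisors 143, ∀ e ∈ Nat.divisors 22, e ≠ 1 →
      4154781481226426191177580544000000 / (23 * e * (2 * m)) % 23 = 1 → 23 * (2 * m) = 46 := by
    decide +kernel
  refine fin m hmm e hee hL.one_lt.ne' ?_
  have hpos : 0 < 23 * e * (2 * m) := by
    rcases Nat.eq_zero_or_pos (23 * e * (2 * m)) with h0 | h0
    · rw [h0, mul_zero] at hcard
      exact absurd hcard (by norm_num)
    · exact h0
  rw [show (4154781481226426191177580544000000 : ℕ) = NB from rfl, hcard, Nat.mul_div_cancel _ hpos]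
  exact hsy

end Cfsg.Agent.H630.OreB.Cent
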